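import Groth.Agent.SteinEtale21.FiniteEtale

/-!
# The Stein factor is finite étale
-/

set_option autoImplicit false
set_option backward.isDefEq.respectTransparency false

universe u

open CategoryTheory CategoryTheory.Limits AlgebraicGeometry TensorProduct Opposite

open GrothLib.Cube (cst)

namespace Groth.Agent.SteinEtale21

variable {X S : Scheme.{u}} (f : X ⟶ S) [IsProper f] [Flat f] [LocallyOfFinitePresentation f]
  [GeometricallyReduced f]

theorem finite_etale_app {V : S.Opens} (hV : IsAffineOpen V) :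
    (f.app V).hom.Finite ∧ (f.app V).hom.Etale := by
  let φ : (f ⁻¹ᵁ V : Scheme.{u}) ⟶ Spec (CommRingCat.of Γ(S, V)) := (f ∣_ V) ≫ hV.isoSpec.hom
  haveI : GeometricallyReduced φ :=
    (MorphismProperty.cancel_right_of_respectsIso (P := @GeometricallyReduced) _ _).mpr inferInstance
  haveI : IsProper φ := inferInstance
  obtain ⟨h1, h2⟩ := finite_etale_sections φ
  letI := (cst φ ⊤).toAlgebra
  have e1 : (f.app V).hom = ((f ⁻¹ᵁ V).topIso.commRingCatIsoToRingEquiv).toRingHom.comp (cst φ ⊤) := by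
    rw [cst_eq]
    have : f.app V = ((Scheme.ΓSpecIso Γ(S, V)).inv ≫ φ.appTop) ≫ (f ⁻¹ᵁ V).topIso.hom := by
      rw [Scheme.Hom.comp_appTop, morphismRestrict_appTop, IsAffineOpen.isoSpec_hom_appTop]
      simp [Scheme.Hom.app_eq_appLE, Scheme.Hom.map_appLE, Scheme.Hom.appLE_map]
    rw [this]
    rfl
  rw [e1]
  exact ⟨RingHom.finite_respectsIso.1 _ _ (RingHom.finite_algebraMap.mpr h1),
    RingHom.Etale.respectsIso.1 _ _ (RingHom.etale_algebraMap.mpr h2)⟩

theorem etale_fromNormalization : Etale f.fromNormalization := by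
  rw [IsZariskiLocalAtSource.iff_of_openCover (P := @Etale) f.normalizationOpenCover]
  intro U
  rw [f.ι_fromNormalization]
  obtain ⟨hfin, het⟩ := finite_etale_app f U.2
  letI := (f.app U.1).hom.toAlgebra
  haveI : Module.Finite Γ(S, U.1) Γ(X, f ⁻¹ᵁ U.1) := hfin
  have hB : integralClosure Γ(S, U.1) Γ(X, f ⁻¹ᵁ U.1) = ⊤ :=
    integralClosure_eq_top_iff.mpr inferInstance
  haveI : Algebra.Etale Γ(S, U.1) Γ(X, f ⁻¹ᵁ U.1) := RingHom.etale_algebraMap.mp het
  haveI : Algebra.Etale Γ(S, U.1) (integralClosure Γ(S, U.1) Γ(X, f ⁻¹ᵁ U.1)) :=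
    Algebra.Etale.of_equiv ((Subalgebra.equivOfEq _ _ hB).trans Subalgebra.topEquiv).symm
  haveI : Etale (Spec.map (f.normalizationDiagramMap.app (.op U.1))) := by
    rw [HasRingHomProperty.Spec_iff (P := @Etale)]
    exact RingHom.etale_algebraMap.mpr (inferInstance : Algebra.Etale Γ(S, U.1) (integralClosure Γ(S, U.1) Γ(X, f ⁻¹ᵁ U.1)))
  exact MorphismProperty.comp_mem (W := @Etale) _ _ this inferInstance

theorem finite_fromNormalization : IsFinite f.fromNormalization := by
  haveI := etale_fromNormalization f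
  exact (IsFinite.iff_isIntegralHom_and_locallyOfFiniteType _).mpr ⟨inferInstance, inferInstance⟩

end Groth.Agent.SteinEtale21
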