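import Groth.Agent.Lib.Seesaw26.FieldFunctions

/-!
# Functions on a flat base change
-/

set_option autoImplicit false
set_option backward.isDefEq.respectTransparency false

universe u

open CategoryTheory CategoryTheory.Limits AlgebraicGeometry TensorProduct Opposite

open GrothLib.Cube (cst)

namespace Groth.Agent.SteinEtale21

theorem exists_tensor_equiv {K L : Type u} [CommRing K] [CommRing L] [Algebra K L] [Module.Flat K L]
    {Z Z' : Scheme.{u}} (p : Z ⟶ Spec (CommRingCat.of K)) [QuasiCompact p] [QuasiSeparated p]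
    (g : Z' ⟶ Z) (q : Z' ⟶ Spec (CommRingCat.of L))
    (H : IsPullback g q p (Spec.map (CommRingCat.ofHom (algebraMap K L)))) :
    letI := (cst p ⊤).toAlgebra
    letI := (cst q ⊤).toAlgebra
    ∃ e : L ⊗[K] Γ(Z, ⊤) ≃ₐ[L] Γ(Z', ⊤), ∀ b : Γ(Z, ⊤), e (1 ⊗ₜ b) = g.appTop b := by
  let φ : Spec (CommRingCat.of L) ⟶ Spec (CommRingCat.of K) := Spec.map (CommRingCat.ofHom (algebraMap K L))
  haveI : CompactSpace Z := QuasiCompact.compactSpace_of_compactSpace p
  haveI : QuasiSeparatedSpace Z := quasiSeparatedSpace_of_quasiSeparated p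
  haveI : Flat φ := by
    rw [HasRingHomProperty.Spec_iff (P := @Flat)]
    exact RingHom.flat_algebraMap_iff.mpr inferInstance
  have hP : IsPushout (p.appLE ⊤ ⊤ le_top) (φ.appLE ⊤ ⊤ le_top) (g.appLE ⊤ ⊤ le_top) (q.appLE ⊤ ⊤ le_top) :=
    (AlgebraicGeometry.isIso_pushoutSection_iff H (US := ⊤) (UT := ⊤) (UX := ⊤) (UY := ⊤) le_top le_top
      (by simp)).1 (isIso_pushoutSection_of_isQuasiSeparated_of_flat_right H _ _ _
        (isAffineOpen_top _) (isAffineOpen_top _) isCompact_univ (IsQuasiSeparated.of_quasiSeparatedSpace _))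
  have hP' : IsPushout (CommRingCat.ofHom (cst p ⊤)) (CommRingCat.ofHom (algebraMap K L))
      (g.appLE ⊤ ⊤ le_top) (CommRingCat.ofHom (cst q ⊤)) := by
    refine hP.of_iso (Scheme.ΓSpecIso _) (Iso.refl _) (Scheme.ΓSpecIso _) (Iso.refl _) ?_ ?_ ?_ ?_
    · ext r
      simp [cst]
    · rw [show φ.appLE ⊤ ⊤ le_top = φ.appTop from Scheme.Hom.appLE_eq_app _]
      exact Scheme.ΓSpecIso_naturality _
    · simp
    · ext r
      simp [cst]
  letI : Algebra K Γ(Z, ⊤) := (cst p ⊤).toAlgebra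
  letI : Algebra L Γ(Z', ⊤) := (cst q ⊤).toAlgebra
  letI : Algebra Γ(Z, ⊤) Γ(Z', ⊤) := (g.appLE ⊤ ⊤ le_top).hom.toAlgebra
  letI : Algebra K Γ(Z', ⊤) := ((cst q ⊤).comp (algebraMap K L)).toAlgebra
  haveI : IsScalarTower K L Γ(Z', ⊤) := IsScalarTower.of_algebraMap_eq fun _ => rfl
  haveI : IsScalarTower K Γ(Z, ⊤) Γ(Z', ⊤) := IsScalarTower.of_algebraMap_eq fun r =>
    (ConcreteCategory.congr_hom hP'.w r).symm
  haveI hA : Algebra.IsPushout K Γ(Z, ⊤) L Γ(Z', ⊤) := CommRingCat.isPushout_iff_isPushout.1 hP'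
  haveI hA' : Algebra.IsPushout K L Γ(Z, ⊤) Γ(Z', ⊤) := hA.symm
  refine ⟨Algebra.IsPushout.equiv K L Γ(Z, ⊤) Γ(Z', ⊤), fun b => ?_⟩
  rw [Algebra.IsPushout.equiv_tmul, map_one, one_mul]
  show (g.appLE ⊤ ⊤ le_top).hom b = _
  rw [show g.appLE ⊤ ⊤ le_top = g.appTop from Scheme.Hom.appLE_eq_app _]

end Groth.Agent.SteinEtale21
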