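import Groth.Agent.SteinEtale21.Components
import Groth.Agent.SteinEtale21.Pushout
import Groth.Agent.Lib.Hensel.Henselization
import Groth.Agent.Lib.BCCrit.Degree0
import Groth.Agent.Lib.Seesaw26.Universal
import Groth.Agent.Lib.Approx6.ModuleScheme
import Groth.Agent.Lib.LocFree8.Basic

/-!
# Functions of a proper flat family with geometrically reduced fibres over an affine base
-/

set_option autoImplicit false
set_option backward.isDefEq.respectTransparency false

universe u

open CategoryTheory CategoryTheory.Limits AlgebraicGeometry TensorProduct Opposite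

open GrothLib.Cube (cst)

namespace Groth.Agent.SteinEtale21

variable {A : Type u} [CommRing A] {X : Scheme.{u}} (f : X ⟶ Spec (CommRingCat.of A)) [IsProper f] [Flat f]
  [LocallyOfFinitePresentation f] [GeometricallyReduced f]

/-- Functions split over a strictly henselian ring. -/
theorem exists_split {R : Type u} [CommRing R] [HenselianLocalRing R] [IsSepClosed (IsLocalRing.ResidueField R)]
    [Algebra A R] [Module.Flat A R] :
    letI := (cst f ⊤).toAlgebra
    ∃ (C : Type u) (_ : Finite C), Nonempty (R ⊗[A] Γ(X, ⊤) ≃ₐ[R] (C → R)) := by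
  let φ := Spec.map (CommRingCat.ofHom (algebraMap A R))
  let q := pullback.snd f φ
  obtain ⟨e, -⟩ := exists_tensor_equiv (K := A) (L := R) f (pullback.fst f φ) q (IsPullback.of_hasPullback _ _)
  haveI := GeomFibre21.finite_connectedComponents q
  letI := (cst f ⊤).toAlgebra
  letI := (cst q ⊤).toAlgebra
  obtain ⟨e'⟩ := exists_algEquiv_pi q
  exact ⟨_, inferInstance, ⟨e.trans e'⟩⟩

/-- Functions on a fibre are spanned by global ones. -/
theorem span_fibre_eq_top (s : Spec (CommRingCat.of A)) :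
    Submodule.span ((Spec (CommRingCat.of A)).residueField s)
      (Set.range (f.fiberι s).appTop) = ⊤ := by
  let S := Spec (CommRingCat.of A)
  let O := S.presheaf.stalk s
  let R := GrothLib.Hensel.StrictHens O
  haveI : Hensel.IsStrictHenselization O R := inferInstance
  haveI : HenselianLocalRing R := Hensel.IsStrictHenselization.henselian O
  haveI : IsSepClosed (IsLocalRing.ResidueField R) :=
    (Hensel.IsStrictHenselization.isSepClosure (R := O) (S := R)).sep_closed
  haveI : Module.Flat O R := GrothLib.Hensel.IsStrictHenselization.flat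
  letI : Algebra A O := StructureSheaf.stalkAlgebra (R := A) s
  haveI : IsLocalization.AtPrime O s.asIdeal := StructureSheaf.IsLocalization.to_stalk (R := A) s
  haveI : Module.Flat A O := IsLocalization.flat O s.asIdeal.primeCompl
  letI : Algebra A R := ((algebraMap O R).comp (algebraMap A O)).toAlgebra
  haveI : IsScalarTower A O R := IsScalarTower.of_algebraMap_eq fun _ => rfl
  haveI : Module.Flat A R := Module.Flat.trans A O R
  let κ := S.residueField s
  let k' := IsLocalRing.ResidueField R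
  letI : Algebra κ k' := (IsLocalRing.ResidueField.map (algebraMap O R)).toAlgebra
  haveI : Module.FaithfullyFlat κ k' := inferInstance
  let φR : Spec (CommRingCat.of R) ⟶ S := Spec.map (CommRingCat.ofHom (algebraMap A R))
  let φk : Spec (CommRingCat.of k') ⟶ Spec κ := Spec.map (CommRingCat.ofHom (algebraMap κ k'))
  let ι₀ : Spec (CommRingCat.of k') ⟶ Spec (CommRingCat.of R) :=
    Spec.map (CommRingCat.ofHom (IsLocalRing.residue R))
  have hcomm : φk ≫ S.fromSpecResidueField s = ι₀ ≫ φR := by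
    have h1 : S.fromSpecStalk s = Spec.map (CommRingCat.ofHom (algebraMap A O)) := by
      rw [Spec.fromSpecStalk_eq' (R := CommRingCat.of A) s]; rfl
    show φk ≫ Spec.map (S.residue s) ≫ S.fromSpecStalk s = _
    rw [h1]
    simp only [φk, φR, ι₀, ← Spec.map_comp]
    congr 1
  let fs : f.fiber s ⟶ Spec κ := f.fiberToSpecResidueField s
  let Z := pullback fs φk
  let XR := pullback f φR
  let m : Z ⟶ XR := pullback.lift (pullback.fst fs φk ≫ f.fiberι s) (pullback.snd fs φk ≫ ι₀) (by
    rw [Category.assoc, Category.assoc, f.fiber_fac, ← hcomm, ← Category.assoc, pullback.condition,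
      Category.assoc])
  have hm : m ≫ pullback.fst f φR = pullback.fst fs φk ≫ f.fiberι s := pullback.lift_fst _ _ _
  have H : IsPullback m (pullback.snd fs φk) (pullback.snd f φR) ι₀ := by
    refine IsPullback.of_right ?_ (pullback.lift_snd _ _ _) (IsPullback.of_hasPullback f φR)
    rw [hm]
    have hs : IsPullback (f.fiberι s) fs f (S.fromSpecResidueField s) := IsPullback.of_hasPullback _ _
    have := (IsPullback.of_hasPullback fs φk).paste_horiz hs
    rwa [hcomm] at this
  have hsurj := surjective_appTop_closedFibre (pullback.snd f φR) m (pullback.snd fs φk) H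
  -- the two descriptions of functions
  obtain ⟨eR, heR⟩ := exists_tensor_equiv (K := A) (L := R) f (pullback.fst f φR) (pullback.snd f φR)
    (IsPullback.of_hasPullback _ _)
  haveI : QuasiCompact fs := inferInstanceAs (QuasiCompact (pullback.snd f (S.fromSpecResidueField s)))
  haveI : QuasiSeparated fs := inferInstanceAs (QuasiSeparated (pullback.snd f (S.fromSpecResidueField s)))
  obtain ⟨ek, hek⟩ := exists_tensor_equiv (K := κ) (L := k') fs (pullback.fst fs φk) (pullback.snd fs φk)
    (IsPullback.of_hasPullback _ _)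
  letI := (cst f ⊤).toAlgebra
  letI algM : Algebra κ Γ(f.fiber s, ⊤) := (cst fs ⊤).toAlgebra
  letI := (cst (pullback.snd f φR) ⊤).toAlgebra
  letI := (cst (pullback.snd fs φk) ⊤).toAlgebra
  have halg : algM = CohIII.algebraFiberGlobal f s := by
    refine Algebra.algebra_ext _ _ fun r => ?_
    show cst fs ⊤ r = ((f.fiberToSpecResidueField s).appTop.hom.comp (Scheme.ΓSpecIso κ).inv.hom) r
    simp [cst, Scheme.Hom.appLE]
    rfl
  suffices hN : Submodule.span κ (Set.range (f.fiberι s).appTop) = ⊤ by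
    rw [halg] at hN; exact hN
  let N : Submodule κ Γ(f.fiber s, ⊤) := Submodule.span κ (Set.range (f.fiberι s).appTop)
  have hN : Function.Surjective (N.subtype.lTensor k') := by
    intro w
    obtain ⟨x, hx⟩ := hsurj (ek w)
    obtain ⟨y, rfl⟩ := eR.surjective x
    induction y using TensorProduct.induction_on generalizing w with
    | zero =>
      refine ⟨0, ?_⟩
      rw [map_zero, map_zero] at hx
      rw [map_zero]
      exact ek.injective ((map_zero ek).trans hx)
    | tmul r b =>
      refine ⟨IsLocalRing.residue R r ⊗ₜ ⟨(f.fiberι s).appTop b, Submodule.subset_span ⟨b, rfl⟩⟩,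
        ek.injective ?_⟩
      rw [← hx, LinearMap.lTensor_tmul]
      show ek (IsLocalRing.residue R r ⊗ₜ (f.fiberι s).appTop b) = _
      have e1 : r ⊗ₜ[A] b = r • ((1 : R) ⊗ₜ[A] b) := by rw [TensorProduct.smul_tmul', smul_eq_mul, mul_one]
      have e2 : IsLocalRing.residue R r ⊗ₜ[κ] ((f.fiberι s).appTop b) =
          (IsLocalRing.residue R r) • ((1 : k') ⊗ₜ[κ] ((f.fiberι s).appTop b)) := by
        rw [TensorProduct.smul_tmul', smul_eq_mul, mul_one]
      rw [e1, e2, map_smul, map_smul, heR, hek, Algebra.smul_def, Algebra.smul_def, map_mul,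
        RingHom.algebraMap_toAlgebra, RingHom.algebraMap_toAlgebra, appTop_cst, H.w, cst_comp_specMap,
        ← ConcreteCategory.comp_apply, ← ConcreteCategory.comp_apply, ← Scheme.Hom.comp_appTop,
        ← Scheme.Hom.comp_appTop, hm]
    | add a b ha hb =>
      obtain ⟨za, hza⟩ := ha (ek.symm (m.appTop (eR a))) (ek.apply_symm_apply _).symm
      obtain ⟨zb, hzb⟩ := hb (ek.symm (m.appTop (eR b))) (ek.apply_symm_apply _).symm
      refine ⟨za + zb, ek.injective ?_⟩
      rw [map_add, hza, hzb, map_add, ek.apply_symm_apply, ek.apply_symm_apply, ← map_add, ← map_add]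
      exact hx
  have := (Module.FaithfullyFlat.lTensor_surjective_iff_surjective κ k' N.subtype).mp hN
  exact eq_top_iff.mpr fun x _ => by
    obtain ⟨y, rfl⟩ := this x
    exact y.2

open GrothLib GrothLib.Ample GrothLib.BCCrit in
theorem goodAll (s : Spec (CommRingCat.of A)) :
    BCCrit.GoodAll f (Coh.structureModule X) ((0 : ℕ) : ℤ) s := by
  let O := Coh.structureModule X
  haveI : O.IsQuasicoherent := InvExt.isQuasicoherent_of_isInvertible Euler.isInvertible_structure
  haveI : Coh.IsQCoh O := ‹O.IsQuasicoherent›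
  have hFP : CohB1.IsFP O := LocFree8.isFP_of_isFinLocFree O (Euler.isFinLocFree_of_isInvertible Euler.isInvertible_structure)
  refine (BCCrit.goodAll_iff_epi0 hFP (Seesaw26.isFlatOver_structure f) s).2 ?_
  let S := Spec (CommRingCat.of A)
  let κ := S.residueField s
  let Z := f.fiber s
  let fs := f.fiberToSpecResidueField s
  haveI : Subsingleton ↥(Spec κ) := inferInstanceAs (Subsingleton (PrimeSpectrum κ))
  let b := CohBC.bc0 f (S.fromSpecResidueField s) fs (f.fiberι s) (f.fiber_fac s) O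
  refine (BCCrit.epi_iff_surjective b (IsLocalRing.closedPoint κ)).2 fun w => ?_
  let i := OX.pullUnitIso (f.fiberι s)
  have e : (⊤ : (Spec κ).Opens) ≤ S.fromSpecResidueField s ⁻¹ᵁ (⊤ : S.Opens) := le_top
  have e' : fs ⁻¹ᵁ (⊤ : (Spec κ).Opens) ≤ (f.fiberι s) ⁻¹ᵁ (f ⁻¹ᵁ (⊤ : S.Opens)) := le_top
  let v : Γ(X, f ⁻¹ᵁ (⊤ : S.Opens)) → _ := fun y =>
    BCCoh.pullRes (f.fiberι s) O (f ⁻¹ᵁ ⊤) (fs ⁻¹ᵁ ⊤) e' (y : Γ(O, f ⁻¹ᵁ (⊤ : S.Opens)))
  have hv : ∀ y : Γ(X, f ⁻¹ᵁ (⊤ : S.Opens)),
      (show Γ(Z, fs ⁻¹ᵁ ⊤) from i.hom.app (fs ⁻¹ᵁ ⊤) (v y)) = (f.fiberι s).appTop y := by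
    intro y
    refine (app_mres i.hom e' _).trans ?_
    refine (congrArg (InvExt.mres (Coh.structureModule Z) e')
      (ProjFormula.pullUnitIso_pullSec (f.fiberι s) (f ⁻¹ᵁ (⊤ : S.Opens)) y)).trans ?_
    show (Z.presheaf.map (homOfLE e').op).hom ((f.fiberι s).app (f ⁻¹ᵁ ⊤) y) = _
    rw [show (homOfLE e').op = 𝟙 _ from rfl, CategoryTheory.Functor.map_id]
    rfl
  have hi : Function.Bijective (i.hom.app (fs ⁻¹ᵁ ⊤)) := (ConcreteCategory.isIso_iff_bijective _).1
    (Scheme.Modules.Hom.isIso_iff_isIso_app.1 (inferInstance : IsIso i.hom) _)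
  suffices H : ∀ z : Γ(Z, ⊤), ∃ u, (show Γ(Z, fs ⁻¹ᵁ ⊤) from i.hom.app (fs ⁻¹ᵁ ⊤) (b.app ⊤ u)) = z by
    obtain ⟨u, hu⟩ := H (i.hom.app (fs ⁻¹ᵁ ⊤) w)
    exact ⟨u, hi.1 hu⟩
  intro z
  have hz : z ∈ Submodule.span κ (Set.range (f.fiberι s).appTop) := by rw [span_fibre_eq_top f s]; trivial
  induction hz using Submodule.span_induction with
  | mem x hx =>
    obtain ⟨y, rfl⟩ := hx
    refine ⟨BCCoh.pullRes (S.fromSpecResidueField s) ((Scheme.Modules.pushforward f).obj O) ⊤ ⊤ e y, ?_⟩
    rw [BCCrit.bc0_pullRes (f.fiber_fac s) O ⊤ ⊤ e e' y]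
    exact hv y
  | zero => exact ⟨0, by rw [map_zero, map_zero]⟩
  | add x y _ _ hx hy =>
    obtain ⟨u, hu⟩ := hx
    obtain ⟨u', hu'⟩ := hy
    exact ⟨u + u', by rw [map_add, map_add, ← hu, ← hu']⟩
  | smul c x _ hx =>
    obtain ⟨u, hu⟩ := hx
    let a : Γ(Spec κ, ⊤) := (Scheme.ΓSpecIso κ).inv c
    refine ⟨a • u, ?_⟩
    rw [← hu, Algebra.smul_def]
    refine (congrArg (fun t => i.hom.app (fs ⁻¹ᵁ ⊤) t) (app_smul b a u)).trans ?_
    refine (app_smul i.hom (fs.app ⊤ a : Γ(Z, fs ⁻¹ᵁ ⊤)) _).trans ?_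
    rfl

end Groth.Agent.SteinEtale21
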