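import Groth.Agent.GeomFibre21.Main
import Groth.Agent.S0980
import Groth.Agent.Lib.Seesaw26.FieldFunctions

/-!
# Functions on proper flat families with geometrically reduced fibres over strictly henselian rings
-/

set_option autoImplicit false
set_option backward.isDefEq.respectTransparency false

universe u

open CategoryTheory CategoryTheory.Limits AlgebraicGeometry TensorProduct Opposite

open GrothLib.Cube (cst)

namespace Groth.Agent.SteinEtale21

theorem cst_eq {K : Type u} [CommRing K] {Z : Scheme.{u}} (p : Z ⟶ Spec (CommRingCat.of K)) :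
    cst p ⊤ = ((Scheme.ΓSpecIso (CommRingCat.of K)).inv ≫ p.appTop).hom := by
  ext r
  simp [cst, Scheme.Hom.appLE]

theorem appTop_cst {K : Type u} [CommRing K] {Z Z' : Scheme.{u}} (p : Z ⟶ Spec (CommRingCat.of K))
    (g : Z' ⟶ Z) (r : K) : g.appTop (cst p ⊤ r) = cst (g ≫ p) ⊤ r := by
  rw [cst_eq, cst_eq, Scheme.Hom.comp_appTop]
  rfl

theorem cst_comp_specMap {K L : Type u} [CommRing K] [CommRing L] {Z : Scheme.{u}} (φ : K →+* L)
    (q : Z ⟶ Spec (CommRingCat.of L)) (r : K) :
    cst (q ≫ Spec.map (CommRingCat.ofHom φ)) ⊤ r = cst q ⊤ (φ r) := by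
  rw [cst_eq, cst_eq, Scheme.Hom.comp_appTop]
  exact congrArg q.appTop.hom (ConcreteCategory.congr_hom (Scheme.ΓSpecIso_inv_naturality (CommRingCat.ofHom φ)) r).symm

/-- Functions on a disjoint union. -/
theorem exists_glue {W : Scheme.{u}} {C : Type u} (U : C → W.Opens) (hU : iSup U = ⊤)
    (hd : Pairwise fun c d => U c ⊓ U d = ⊥) (x : ∀ c, Γ((U c : Scheme.{u}), ⊤)) :
    ∃! s : Γ(W, ⊤), ∀ c, (U c).ι.appTop s = x c := by
  let U' : C → W.Opens := fun c => (U c).ι ''ᵁ ⊤
  have hU' : ∀ c, U' c = U c := fun c => (U c).ι_image_top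
  refine W.sheaf.existsUnique_gluing' U' ⊤ (fun c => homOfLE le_top)
    (by rw [show U' = U from funext hU', hU]) x fun c d => ?_
  by_cases h : c = d
  · subst h; rfl
  · have : Subsingleton Γ(W, U' c ⊓ U' d) := by
      rw [hU', hU', hd h]
      exact CommRingCat.subsingleton_of_isTerminal W.sheaf.isTerminalOfEmpty
    exact this.elim _ _

variable {A : Type u} [CommRing A] [HenselianLocalRing A] [IsSepClosed (IsLocalRing.ResidueField A)]

theorem geometricallyConnected_of_connected {W : Scheme.{u}} (g : W ⟶ Spec (CommRingCat.of A)) [IsProper g]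
    [Flat g] [LocallyOfFinitePresentation g] [GeometricallyReduced g] [ConnectedSpace W] :
    GeometricallyConnected g := by
  refine ⟨fun K _ y Z fst snd hZ => ?_⟩
  let c : Spec (CommRingCat.of (AlgebraicClosure K)) ⟶ Spec (CommRingCat.of K) :=
    Spec.map (CommRingCat.ofHom (algebraMap K (AlgebraicClosure K)))
  haveI : Surjective c := ⟨fun x => ⟨IsLocalRing.closedPoint _, Subsingleton.elim (α := PrimeSpectrum K) _ _⟩⟩
  haveI := GeomFibre21.connectedSpace_pullback g (c ≫ y)
  haveI : ConnectedSpace ↥(pullback (pullback.snd g y) c) :=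
    (pullbackLeftPullbackSndIso g y c).inv.homeomorph.surjective.connectedSpace
      (pullbackLeftPullbackSndIso g y c).inv.continuous
  haveI : ConnectedSpace ↥(pullback g y) :=
    (pullback.fst (pullback.snd g y) c).surjective.connectedSpace (pullback.fst (pullback.snd g y) c).continuous
  exact hZ.isoPullback.inv.homeomorph.surjective.connectedSpace hZ.isoPullback.inv.continuous

/-- The functions of a connected family are the base ring. -/
theorem bijective_cst_of_connected {W : Scheme.{u}} (g : W ⟶ Spec (CommRingCat.of A)) [IsProper g]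
    [Flat g] [LocallyOfFinitePresentation g] [GeometricallyReduced g] [ConnectedSpace W] :
    Function.Bijective (cst g ⊤) := by
  haveI := geometricallyConnected_of_connected g
  haveI : IsIso (g.app ⊤) := Groth.Agent.S0980.result g (fun s => by
    have h1 := GrothLib.Seesaw26.finrank_fiber_functions_eq_one g s
    rw [ConcreteCategory.isIso_iff_bijective]
    let K := (Spec (CommRingCat.of A)).residueField s
    haveI : Nontrivial Γ(g.fiber s, ⊤) := Module.nontrivial_of_finrank_eq_succ (R := K) h1
    have hb : Function.Bijective (algebraMap K Γ(g.fiber s, ⊤)) :=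
      ⟨(algebraMap K Γ(g.fiber s, ⊤)).injective, fun z => by
        obtain ⟨r, hr⟩ := (finrank_eq_one_iff_of_nonzero' (1 : Γ(g.fiber s, ⊤)) one_ne_zero).mp h1 z
        exact ⟨r, by rw [Algebra.algebraMap_eq_smul_one]; exact hr⟩⟩
    exact (Function.Bijective.of_comp_iff (g.fiberToSpecResidueField s).appTop
      (ConcreteCategory.bijective_of_isIso (Scheme.ΓSpecIso K).inv)).mp hb) ⊤
  rw [cst_eq]
  exact (ConcreteCategory.bijective_of_isIso (g.app ⊤)).comp
    (ConcreteCategory.bijective_of_isIso (Scheme.ΓSpecIso (CommRingCat.of A)).inv)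

variable {W : Scheme.{u}} (g : W ⟶ Spec (CommRingCat.of A)) [IsProper g]
    [Flat g] [LocallyOfFinitePresentation g] [GeometricallyReduced g]

/-- The component as an open. -/
noncomputable def comp (c : _root_.ConnectedComponents W) : W.Opens :=
  haveI := GeomFibre21.finite_connectedComponents g
  ⟨ConnectedComponents.mk ⁻¹' {c}, (isOpen_discrete _).preimage ConnectedComponents.continuous_coe⟩

theorem iSup_comp : iSup (comp g) = ⊤ :=
  top_le_iff.mp fun x _ => TopologicalSpace.Opens.mem_iSup.mpr ⟨ConnectedComponents.mk x, rfl⟩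

theorem pairwise_comp : Pairwise fun c d => comp g c ⊓ comp g d = ⊥ := fun c d h => by
  ext x
  exact iff_of_false (fun hx => h (hx.1.symm.trans hx.2)) (fun h => h.elim)

theorem connectedSpace_comp (c : _root_.ConnectedComponents W) : ConnectedSpace ↑(comp g c : Scheme.{u}) := by
  obtain ⟨x, hx⟩ := ConnectedComponents.surjective_coe c
  have : (comp g c : Set W) = connectedComponent x := by
    show ConnectedComponents.mk ⁻¹' {c} = _
    rw [← hx]
    exact connectedComponents_preimage_singleton
  exact isConnected_iff_connectedSpace.mp (this ▸ isConnected_connectedComponent)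

theorem isClosedImmersion_comp (c : _root_.ConnectedComponents W) : IsClosedImmersion (comp g c).ι := by
  haveI := GeomFibre21.finite_connectedComponents g
  exact IsClosedImmersion.of_isPreimmersion _ (by
    rw [Scheme.Opens.range_ι]; exact (isClosed_discrete ({c} : Set (_root_.ConnectedComponents W))).preimage ConnectedComponents.continuous_coe)

theorem bijective_cst_comp (c : _root_.ConnectedComponents W) :
    Function.Bijective (cst ((comp g c).ι ≫ g) ⊤) := by
  haveI := connectedSpace_comp g c
  haveI := isClosedImmersion_comp g c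
  haveI : GeometricallyReduced ((comp g c).ι ≫ g) := GeomFibre21.geometricallyReduced_of_algClosed _ fun K _ _ s => by
    let e : pullback ((comp g c).ι ≫ g) s ⟶ pullback g s :=
      pullback.map _ s g s (comp g c).ι (𝟙 _) (𝟙 _) (by simp) (by simp)
    haveI : IsOpenImmersion e := MorphismProperty.pullbackMap (P := @IsOpenImmersion)
      (f' := g) (g' := s) inferInstance inferInstance rfl (Category.id_comp s).symm
    haveI : IsReduced (pullback g s) :=
      GeometricallyReduced.geometrically_isReduced _ _ _ (IsPullback.of_hasPullback _ _)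
    exact isReduced_of_isOpenImmersion e
  exact bijective_cst_of_connected _

/-- The ring of functions is split. -/
theorem exists_algEquiv_pi :
    letI := (cst g ⊤).toAlgebra
    Nonempty (Γ(W, ⊤) ≃ₐ[A] (_root_.ConnectedComponents W → A)) := by
  letI := (cst g ⊤).toAlgebra
  let e : ∀ c, A ≃+* Γ((comp g c : Scheme.{u}), ⊤) := fun c => RingEquiv.ofBijective _ (bijective_cst_comp g c)
  let Φ : Γ(W, ⊤) →ₐ[A] (_root_.ConnectedComponents W → A) :=
    { Pi.ringHom fun c => (e c).symm.toRingHom.comp (comp g c).ι.appTop.hom with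
      commutes' := fun r => funext fun c => (e c).symm_apply_eq.mpr (appTop_cst g (comp g c).ι r) }
  refine ⟨AlgEquiv.ofBijective Φ ⟨fun x y hxy => ?_, fun v => ?_⟩⟩
  · exact (exists_glue _ (iSup_comp g) (pairwise_comp g) (fun c => (comp g c).ι.appTop x)).unique
      (fun c => rfl) fun c => ((e c).symm.injective (congrFun hxy c)).symm
  · obtain ⟨s, hs, -⟩ := exists_glue _ (iSup_comp g) (pairwise_comp g) (fun c => e c (v c))
    exact ⟨s, funext fun c => by
      show (e c).symm ((comp g c).ι.appTop s) = v c
      rw [hs c, RingEquiv.symm_apply_apply]⟩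

/-- Functions on the closed fibre lift. -/
theorem surjective_appTop_closedFibre {Z : Scheme.{u}} (m : Z ⟶ W)
    (q : Z ⟶ Spec (CommRingCat.of (IsLocalRing.ResidueField A)))
    (H : IsPullback m q g (Spec.map (CommRingCat.ofHom (IsLocalRing.residue A)))) :
    Function.Surjective m.appTop := by
  intro w
  let ι₀ := Spec.map (CommRingCat.ofHom (IsLocalRing.residue A))
  let V : _root_.ConnectedComponents W → Z.Opens := fun c => m ⁻¹ᵁ comp g c
  have hV : iSup V = ⊤ := top_le_iff.mp fun x _ =>
    TopologicalSpace.Opens.mem_iSup.mpr ⟨ConnectedComponents.mk (m x), rfl⟩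
  have hVd : Pairwise fun c d => V c ⊓ V d = ⊥ := fun c d h => by
    ext x
    exact iff_of_false (fun hx => h (hx.1.symm.trans hx.2)) (fun h => h.elim)
  have hloc : ∀ c, ∃ a : A, (V c).ι.appTop w = (m ∣_ comp g c).appTop (cst ((comp g c).ι ≫ g) ⊤ a) := by
    intro c
    haveI := connectedSpace_comp g c
    haveI := isClosedImmersion_comp g c
    haveI : GeometricallyReduced ((comp g c).ι ≫ g) := GeomFibre21.geometricallyReduced_of_algClosed _ fun K _ _ s => by
      let e : pullback ((comp g c).ι ≫ g) s ⟶ pullback g s :=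
        pullback.map _ s g s (comp g c).ι (𝟙 _) (𝟙 _) (by simp) (by simp)
      haveI : IsOpenImmersion e := MorphismProperty.pullbackMap (P := @IsOpenImmersion)
        (f' := g) (g' := s) inferInstance inferInstance rfl (Category.id_comp s).symm
      haveI : IsReduced (pullback g s) :=
        GeometricallyReduced.geometrically_isReduced _ _ _ (IsPullback.of_hasPullback _ _)
      exact isReduced_of_isOpenImmersion e
    haveI := geometricallyConnected_of_connected ((comp g c).ι ≫ g)
    have hsq : IsPullback (m ∣_ comp g c) ((V c).ι ≫ q) ((comp g c).ι ≫ g) ι₀ :=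
      (isPullback_morphismRestrict m (comp g c)).paste_vert H
    haveI : GeometricallyConnected ((V c).ι ≫ q) := MorphismProperty.of_isPullback hsq ‹_›
    haveI : GeometricallyReduced ((V c).ι ≫ q) := MorphismProperty.of_isPullback hsq ‹_›
    haveI : UniversallyClosed ((V c).ι ≫ q) :=
      MorphismProperty.of_isPullback (P := @UniversallyClosed) hsq inferInstance
    haveI : QuasiSeparated ((V c).ι ≫ q) :=
      MorphismProperty.of_isPullback (P := @QuasiSeparated) hsq inferInstance
    have h1 := GrothLib.Seesaw26.finrank_functions_eq_one ((V c).ι ≫ q)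
    letI := (((V c).ι ≫ q).appTop.hom.comp (Scheme.ΓSpecIso
      (CommRingCat.of (IsLocalRing.ResidueField A))).inv.hom).toAlgebra
    haveI : Nontrivial Γ((V c : Scheme.{u}), ⊤) :=
      Module.nontrivial_of_finrank_eq_succ (R := IsLocalRing.ResidueField A) h1
    obtain ⟨r, hr⟩ := (finrank_eq_one_iff_of_nonzero' (1 : Γ((V c : Scheme.{u}), ⊤)) one_ne_zero).mp h1
      ((V c).ι.appTop w)
    obtain ⟨a, rfl⟩ := IsLocalRing.residue_surjective r
    refine ⟨a, ?_⟩
    rw [← hr, appTop_cst, hsq.w, cst_comp_specMap, cst_eq, Algebra.smul_def, mul_one]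
    rfl
  choose a ha using hloc
  obtain ⟨s, hs, -⟩ := exists_glue _ (iSup_comp g) (pairwise_comp g) (fun c => cst ((comp g c).ι ≫ g) ⊤ (a c))
  refine ⟨s, (exists_glue V hV hVd fun c => (V c).ι.appTop w).unique (fun c => ?_) fun c => rfl⟩
  rw [ha c, ← hs c, ← ConcreteCategory.comp_apply, ← ConcreteCategory.comp_apply, ← Scheme.Hom.comp_appTop,
    ← Scheme.Hom.comp_appTop, morphismRestrict_ι]

end Groth.Agent.SteinEtale21
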