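import Groth.Agent.SteinEtale21.Affine

/-!
# The functions form a finite étale algebra
-/

set_option autoImplicit false
set_option backward.isDefEq.respectTransparency false

universe u

open CategoryTheory CategoryTheory.Limits AlgebraicGeometry TensorProduct Opposite

open GrothLib.Cube (cst)

namespace Groth.Agent.SteinEtale21

theorem finitePresentation_of_top {R : CommRingCat.{u}} (N : (Spec R).Modules)
    [N.IsQuasicoherent] (hN : CohB1.IsFP N) {M : Type u} [AddCommGroup M] [Module R M] (e : Γ(N, ⊤) ≃+ M)
    (he : ∀ (r : R) x, e (r • x) = r • e x) : Module.FinitePresentation R M := by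
  haveI : Module.FinitePresentation R Γ(N, ⊤) := GrothLib.Approx6.finitePresentation_top N hN
  exact Module.FinitePresentation.of_equiv (e.toLinearEquiv he)

variable {A : Type u} [CommRing A] {X : Scheme.{u}} (f : X ⟶ Spec (CommRingCat.of A)) [IsProper f] [Flat f]
  [LocallyOfFinitePresentation f] [GeometricallyReduced f]

open GrothLib GrothLib.Ample GrothLib.BCCrit in
theorem finitePresentation_sections :
    letI := (cst f ⊤).toAlgebra
    Module.FinitePresentation A Γ(X, ⊤) := by
  let O := Coh.structureModule X
  haveI : O.IsQuasicoherent := InvExt.isQuasicoherent_of_isInvertible Euler.isInvertible_structure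
  haveI : Coh.IsQCoh O := ‹O.IsQuasicoherent›
  have hFP : CohB1.IsFP O := LocFree8.isFP_of_isFinLocFree O (Euler.isFinLocFree_of_isInvertible Euler.isInvertible_structure)
  let N : (Spec (CommRingCat.of A)).Modules := (Scheme.Modules.pushforward f).obj O
  haveI : N.IsQuasicoherent := QCoh.isQuasicoherent_pushforward f O
  have hN : FlatMod.IsFinLocFree N := fun s => by
    obtain ⟨U, n, hs, hφ, -⟩ := exists_free_near0 hFP (Seesaw26.isFlatOver_structure f) s (goodAll f s)
    exact ⟨U, n, hs, hφ⟩
  letI := (cst f ⊤).toAlgebra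
  refine finitePresentation_of_top (R := CommRingCat.of A) N (LocFree8.isFP_of_isFinLocFree N hN)
    (AddEquiv.refl _ : Γ(N, ⊤) ≃+ Γ(X, ⊤)) fun r x => ?_
  show _ = cst f ⊤ r * _
  rw [cst_eq]
  rfl

/-- The functions form a finite étale algebra. -/
theorem finite_etale_sections :
    letI := (cst f ⊤).toAlgebra
    Module.Finite A Γ(X, ⊤) ∧ Algebra.Etale A Γ(X, ⊤) := by
  letI := (cst f ⊤).toAlgebra
  haveI := finitePresentation_sections f
  have key : ∀ (P : Ideal A) [P.IsMaximal],
      Algebra.Etale (Localization.AtPrime P) (Localization.AtPrime P ⊗[A] Γ(X, ⊤)) := by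
    intro P _
    let O := Localization.AtPrime P
    let R := GrothLib.Hensel.StrictHens O
    haveI : Hensel.IsStrictHenselization O R := inferInstance
    haveI : HenselianLocalRing R := Hensel.IsStrictHenselization.henselian O
    haveI : IsSepClosed (IsLocalRing.ResidueField R) :=
      (Hensel.IsStrictHenselization.isSepClosure (R := O) (S := R)).sep_closed
    haveI : Module.FaithfullyFlat O R := GrothLib.Hensel.IsStrictHenselization.faithfullyFlat
    letI : Algebra A R := ((algebraMap O R).comp (algebraMap A O)).toAlgebra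
    haveI : IsScalarTower A O R := IsScalarTower.of_algebraMap_eq fun _ => rfl
    haveI : Module.Flat A R := Module.Flat.trans A O R
    obtain ⟨C, _, ⟨e⟩⟩ := exists_split f (R := R)
    haveI : Algebra.Etale R (R ⊗[O] (O ⊗[A] Γ(X, ⊤))) :=
      Algebra.Etale.of_equiv ((Algebra.TensorProduct.cancelBaseChange A O R R Γ(X, ⊤)).trans e).symm
    exact Algebra.Etale.of_etale_tensorProduct_of_faithfullyFlat (T := R)
  haveI : Module.Flat A Γ(X, ⊤) := by
    refine Module.flat_of_localized_maximal _ fun P _ => ?_
    haveI := key P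
    haveI : Module.Flat (Localization.AtPrime P) (Localization.AtPrime P ⊗[A] Γ(X, ⊤)) := inferInstance
    haveI : Module.Flat A (Localization.AtPrime P) := IsLocalization.flat _ P.primeCompl
    haveI : Module.Flat A (Localization.AtPrime P ⊗[A] Γ(X, ⊤)) :=
      Module.Flat.trans A (Localization.AtPrime P) _
    exact Module.Flat.of_linearEquiv
      ((LocalizedModule.equivTensorProduct P.primeCompl Γ(X, ⊤)).restrictScalars A)
  haveI : Algebra.FormallyUnramified A Γ(X, ⊤) := by
    refine ⟨Module.subsingleton_of_localization_maximal (R := A) (fun P _ => Localization.AtPrime P ⊗[A] Ω[Γ(X, ⊤)⁄A])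
      (fun P _ => TensorProduct.mk A (Localization.AtPrime P) _ 1) fun P _ => ?_⟩
    haveI := key P
    letI : Algebra Γ(X, ⊤) (Localization.AtPrime P ⊗[A] Γ(X, ⊤)) := Algebra.TensorProduct.rightAlgebra
    exact (KaehlerDifferential.tensorKaehlerEquivBase A (Localization.AtPrime P) Γ(X, ⊤)
      (Localization.AtPrime P ⊗[A] Γ(X, ⊤))).toEquiv.subsingleton
  exact ⟨inferInstance, Algebra.Etale.of_formallyUnramified_of_flat⟩

end Groth.Agent.SteinEtale21
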